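import Cfsg.Agent.H52.JThree.Tc.Sound

/-!
A lower bound on the number of cosets from a table of permutations of the live points.
-/

set_option autoImplicit false

namespace Cfsg.Agent.H52.JThree.Tc

/-- The permutations and two rankings: towards a representative of an orbit of the subgroup, and
towards the first point. -/
structure Act where
  ad : ℕ
  acts : BT
  rd : ℕ
  ranks : BT
  reps : List (ℕ × List ℕ × List ℕ)
  small : List ℕ

namespace Act

noncomputable def act (A : Act) (b i : ℕ) : ℕ :=
  Nat.mod (Nat.shiftRight (look 90 4 A.ad A.acts b) (Nat.mul 15 i)) 32768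
noncomputable def rank (A : Act) (b : ℕ) : ℕ := Nat.mod (look 24 4 A.rd A.ranks b) 256
noncomputable def step (A : Act) (b : ℕ) : ℕ := Nat.mod (Nat.shiftRight (look 24 4 A.rd A.ranks b) 8) 16
noncomputable def depth (A : Act) (b : ℕ) : ℕ := Nat.mod (Nat.shiftRight (look 24 4 A.rd A.ranks b) 12) 256
noncomputable def next (A : Act) (b : ℕ) : ℕ := Nat.shiftRight (look 24 4 A.rd A.ranks b) 20

noncomputable def iter (A : Act) (b i k : ℕ) : ℕ := Nat.rec b (fun _ c => A.act c i) k

noncomputable def run (A : Act) (b : ℕ) (l : List ℕ) : ℕ :=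
  List.rec (motive := fun _ => ℕ → ℕ) (fun b => b) (fun i _ ih b => ih (A.act b i)) l b

end Act

/-- The orders of the six letters. -/
def ordLet : List ℕ := [5, 3, 2, 2, 2, 2]

/-- The positions of the letters of the subgroup. -/
def subPos : List ℕ := [0, 1, 2, 3, 5]

/-- Replace the symbol `9` by a word. -/
def expand (w : List ℕ) : List ℕ → List ℕ
  | [] => []
  | t :: ts => (cond (Nat.beq t 9) w [t]) ++ expand w ts

/-- The facts of a live point agree with the permutations. -/
noncomputable def okEdge (L : Log) (A : Act) (b e : ℕ) : Bool :=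
  cond (L.live b)
    ((List.range 6).all fun i =>
      let f := Nat.mod (Nat.shiftRight e (Nat.mul 18 i)) 262144
      let f' := Nat.shiftRight f 1
      Nat.blt f' L.numFacts &&
        cond (Nat.beq (Nat.mod f 2) 1)
          (Nat.beq (L.fb f') b && Nat.beq (iv (L.fg f')) (closeLet.getD i 0) && Nat.beq (L.fa f') (A.act b i))
          (Nat.beq (L.fa f') b && Nat.beq (L.fg f') (closeLet.getD i 0) && Nat.beq (L.fb f') (A.act b i)))
    true

/-- A run of `okEdge`. -/
noncomputable def okEdges (L : Log) (A : Act) (es : List ℕ) (start : ℕ) : Bool :=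
  List.rec (motive := fun _ => ℕ → Bool) (fun _ => true)
    (fun e _ ih b => cond (okEdge L A b e) (ih (Nat.add b 1)) false) es start

/-- The permutations and the rankings at a point. -/
noncomputable def okAct (L : Log) (A : Act) (b : ℕ) : Bool :=
  (List.range 6).all (fun i => Nat.blt (A.act b i) L.numPts && Nat.beq (A.iter b i (ordLet.getD i 0)) b) &&
    cond (L.live b)
      ((List.range 6).all (fun i => L.live (A.act b i)) &&
        cond (Nat.beq (A.rank b) 0)
          (A.small.any (Nat.beq b) || A.reps.any (fun r => Nat.beq r.1 b))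
          (subPos.any (Nat.beq (A.step b)) && Nat.blt (A.rank (A.act b (A.step b))) (A.rank b) &&
            !(A.small.any (Nat.beq (A.act b (A.step b))))) &&
        cond (Nat.beq (A.depth b) 0) (Nat.beq b 0)
          (Nat.blt (A.next b) 6 && Nat.blt (A.depth (A.act b (A.next b))) (A.depth b)))
      true

/-- A run of `okAct`. -/
noncomputable def okActs (L : Log) (A : Act) (start len : ℕ) : Bool :=
  Nat.rec (motive := fun _ => Bool) true (fun k ih => cond (okAct L A (Nat.add start k)) ih false) len

/-- A representative: if it is in the first block then so is the image of the first point under `q`. -/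
noncomputable def okRep (A : Act) (r : ℕ × List ℕ × List ℕ) : Bool :=
  r.2.1.all (fun i => Nat.blt i 6) && r.2.2.all (fun t => subPos.any (Nat.beq t) || Nat.beq t 9) &&
    Nat.beq (A.run 0 r.2.1) r.1 && Nat.beq (A.run 0 (expand r.2.1 r.2.2)) (A.act 0 4)

theorem okEdges_spec (L : Log) (A : Act) : ∀ (es : List ℕ) (s : ℕ), okEdges L A es s = true →
    ∀ b, s ≤ b → b < s + es.length → ∃ e, okEdge L A b e = true
  | [], s, _, b, h1, h2 => by simp at h2; omega
  | e :: es, s, h, b, h1, h2 => by
    cases he : okEdge L A s e with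
    | false => simp [okEdges, he] at h
    | true =>
      simp only [okEdges, he, cond_true] at h
      rcases eq_or_lt_of_le h1 with rfl | hlt
      · exact ⟨e, he⟩
      · exact okEdges_spec L A es (s + 1) h b hlt (by simp at h2; omega)

theorem okActs_spec (L : Log) (A : Act) (s : ℕ) : ∀ n, okActs L A s n = true →
    ∀ b, s ≤ b → b < s + n → okAct L A b = true
  | 0, _, b, h1, h2 => absurd h2 (by omega)
  | n + 1, h, b, h1, h2 => by
    cases ha : okAct L A (s + n) with
    | false => simp [okActs, ha] at h
    | true =>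
      simp only [okActs, Nat.add_eq, ha, cond_true] at h
      rcases Nat.lt_or_ge b (s + n) with hlt | hge
      · exact okActs_spec L A s n h b h1 hlt
      · rwa [show b = s + n by omega]

theorem expand_lt {w ts : List ℕ} (hw : ∀ i ∈ w, i < 6)
    (ht : ∀ t ∈ ts, (∃ i ∈ subPos, Nat.beq t i = true) ∨ Nat.beq t 9 = true) : ∀ i ∈ expand w ts, i < 6 := by
  induction ts with
  | nil => simp [expand]
  | cons t ts ih =>
    intro i hi
    rcases List.mem_append.mp hi with h | h
    · cases h9 : Nat.beq t 9
      · rw [h9, cond_false, List.mem_singleton] at h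
        subst h
        rcases ht i List.mem_cons_self with ⟨j, hj, hje⟩ | h'
        · rw [Nat.eq_of_beq_eq_true hje]
          exact (by decide : ∀ j ∈ subPos, j < 6) j hj
        · simp [h9] at h'
      · rw [h9, cond_true] at h
        exact hw i h
    · exact ih (fun t ht' => ht t (List.mem_cons_of_mem _ ht')) i h

/-- A checked table. -/
structure CheckedAct (L : Log) (A : Act) where
  edge : ∀ b < L.numPts, ∃ e, okEdge L A b e = true
  good : ∀ b < L.numPts, okAct L A b = true
  rep : A.reps.all (okRep A) = true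
  zero_live : L.live 0 = true
  pos : 0 < L.numPts
  small_le : A.small.length ≤ 3
  sub : ∀ i ∈ subPos, closeLet.getD i 0 ∈ L.subs

namespace Model

variable {L : Log} {Q : Type*} [Group Q] (M : Model L Q) {A : Act}

/-- The letter at a position. -/
def let' (i : ℕ) : Q := M.gen (closeLet.getD i 0)

section
theorem expand_mem (w : List ℕ) : ∀ ts : List ℕ, (∀ t ∈ ts, M.let' t ∈ M.H ∨ t = 9) →
    (w.map M.let').prod ∈ M.H → ((expand w ts).map M.let').prod ∈ M.H
  | [], _, _ => by simp [expand]
  | t :: ts, ht, hw => by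
    rw [expand, List.map_append, List.prod_append]
    refine mul_mem ?_ (expand_mem w ts (fun x hx => ht x (List.mem_cons_of_mem _ hx)) hw)
    cases h9 : Nat.beq t 9
    · rcases ht t List.mem_cons_self with h | rfl
      · simpa using h
      · simp at h9
    · simpa using hw

variable (C : CheckedAct L A)
include C

omit M in
theorem act_lt {b i : ℕ} (hb : b < L.numPts) (hi : i < 6) :
    A.act b i < L.numPts ∧ A.iter b i (ordLet.getD i 0) = b := by
  have h := C.good b hb
  simp only [okAct, Bool.and_eq_true, List.all_eq_true] at h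
  have := h.1 i (List.mem_range.mpr hi)
  simp only [Nat.blt_eq] at this
  exact ⟨this.1, Nat.eq_of_beq_eq_true this.2⟩

omit M in
theorem act_inj {b c i : ℕ} (hb : b < L.numPts) (hc : c < L.numPts) (hi : i < 6)
    (h : A.act b i = A.act c i) : b = c := by
  have e1 := (act_lt C hb hi).2
  have e2 := (act_lt C hc hi).2
  obtain ⟨k, hk⟩ : ∃ k, ordLet.getD i 0 = k + 1 := by interval_cases i <;> exact ⟨_, rfl⟩
  rw [hk] at e1 e2
  have : ∀ k, A.iter b i (k + 1) = A.iter c i (k + 1) := by
    intro k
    induction k with
    | zero => exact h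
    | succ k ih => exact congrArg (fun z => A.act z i) ih
  rw [← e1, this k, e2]

omit M in
theorem act_live {b i : ℕ} (hb : b < L.numPts) (hl : L.live b = true) (hi : i < 6) :
    L.live (A.act b i) = true := by
  have h := C.good b hb
  simp only [okAct, hl, cond_true, Bool.and_eq_true, List.all_eq_true] at h
  exact h.2.1.1 i (List.mem_range.mpr hi)

variable (K : Checked L)
include K

theorem pt_act {b i : ℕ} (hb : b < L.numPts) (hl : L.live b = true) (hi : i < 6) :
    M.pt (A.act b i) = (M.let' i)⁻¹ • M.pt b := by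
  obtain ⟨e, he⟩ := C.edge b hb
  simp only [okEdge, hl, cond_true, List.all_eq_true] at he
  have h := he i (List.mem_range.mpr hi)
  simp only [Bool.and_eq_true, Nat.blt_eq] at h
  obtain ⟨hlt, h⟩ := h
  have hF := M.holds K _ hlt
  revert h
  cases Nat.beq (Nat.mod (Nat.mod (Nat.shiftRight e (Nat.mul 18 i)) 262144) 2) 1 <;>
    simp only [cond_true, cond_false, Bool.and_eq_true] <;> rintro ⟨⟨h1, h2⟩, h3⟩
  · rw [let', ← Nat.eq_of_beq_eq_true h2, ← Nat.eq_of_beq_eq_true h3, ← Nat.eq_of_beq_eq_true h1]
    exact hF
  · rw [let', ← Nat.eq_of_beq_eq_true h2, ← Nat.eq_of_beq_eq_true h3, ← Nat.eq_of_beq_eq_true h1, M.gen_iv,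
      inv_inv, hF, smul_smul, mul_inv_cancel, one_smul]

theorem run_spec : ∀ (l : List ℕ), (∀ i ∈ l, i < 6) → ∀ b < L.numPts, L.live b = true →
    M.pt (A.run b l) = ((l.map M.let').prod)⁻¹ • M.pt b
  | [], _, b, _, _ => by simp [Act.run]
  | i :: l, hl, b, hb, hlive => by
    have hi := hl i List.mem_cons_self
    show M.pt (A.run (A.act b i) l) = _
    rw [run_spec l (fun j hj => hl j (List.mem_cons_of_mem _ hj)) _ (act_lt C hb hi).1
      (act_live C hb hlive hi), M.pt_act C K hb hlive hi]
    simp [mul_smul]

omit C K in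
theorem smul_zero_eq_iff (g : Q) : g⁻¹ • M.pt 0 = M.pt 0 ↔ g ∈ M.H := by
  rw [M.pt_zero, MulAction.Quotient.smul_mk, QuotientGroup.eq]
  simp

omit K in
theorem step_mem {i : ℕ} (hi : i ∈ subPos) : M.let' i ∈ M.H := M.sub_mem _ (C.sub i hi)

/-- The first block has at most three points. -/
theorem mem_small (hq : M.gen 6 ∉ M.H) :
    ∀ b < L.numPts, L.live b = true → M.pt b = M.pt 0 → b ∈ A.small := by
  intro b
  induction hk : A.rank b using Nat.strong_induction_on generalizing b with
  | _ k IH =>
    intro hb hl hp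
    subst hk
    have h := C.good b hb
    simp only [okAct, hl, cond_true, Bool.and_eq_true] at h
    obtain ⟨-, ⟨-, hr⟩, -⟩ := h
    cases h0 : Nat.beq (A.rank b) 0
    · simp only [h0, cond_false, Bool.and_eq_true, List.any_eq_true, Nat.blt_eq] at hr
      obtain ⟨⟨⟨i, hi, hie⟩, hlt⟩, hns⟩ := hr
      rw [Nat.eq_of_beq_eq_true hie] at hlt hns
      have hi6 : i < 6 := (by decide : ∀ i ∈ subPos, i < 6) i hi
      have hnext : M.pt (A.act b i) = M.pt 0 := by
        rw [M.pt_act C K hb hl hi6, hp, M.smul_zero_eq_iff]
        exact M.step_mem C hi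
      have hmem := IH _ hlt _ rfl (act_lt C hb hi6).1 (act_live C hb hl hi6) hnext
      simp only [Bool.not_eq_true', ← Bool.not_eq_true, List.any_eq_true] at hns
      exact absurd ⟨_, hmem, Nat.beq_refl _⟩ hns
    · simp only [h0, cond_true, Bool.or_eq_true, List.any_eq_true] at hr
      rcases hr with ⟨x, hx, hxe⟩ | ⟨r, hr, hre⟩
      · rwa [Nat.eq_of_beq_eq_true hxe]
      · exfalso
        have hR := List.all_eq_true.mp C.rep r hr
        simp only [okRep, Bool.and_eq_true, List.all_eq_true, Nat.blt_eq, Bool.or_eq_true, List.any_eq_true] at hR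
        obtain ⟨⟨⟨hw, ht⟩, hr1⟩, hr2⟩ := hR
        have e0 : M.pt r.1 = M.pt 0 := by rw [Nat.eq_of_beq_eq_true hre]; exact hp
        rw [← Nat.eq_of_beq_eq_true hr1, M.run_spec C K _ hw 0 C.pos C.zero_live, M.smul_zero_eq_iff] at e0
        have hlt : ∀ i ∈ expand r.2.1 r.2.2, i < 6 := expand_lt hw ht
        have hmem : ((expand r.2.1 r.2.2).map M.let').prod ∈ M.H := by
          refine expand_mem M r.2.1 r.2.2 ?_ e0
          intro t ht'
          rcases ht t ht' with ⟨i, hi, hie⟩ | h9
          · exact Or.inl (Nat.eq_of_beq_eq_true hie ▸ M.step_mem C hi)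
          · exact Or.inr (Nat.eq_of_beq_eq_true h9)
        have e1 := M.run_spec C K _ hlt 0 C.pos C.zero_live
        rw [Nat.eq_of_beq_eq_true hr2, M.pt_act C K C.pos C.zero_live (by norm_num),
          (M.smul_zero_eq_iff _).mpr hmem, M.smul_zero_eq_iff] at e1
        exact hq e1

open Classical in
/-- Every block has at most three points. -/
theorem fibre_le (hq : M.gen 6 ∉ M.H) :
    ∀ c < L.numPts, L.live c = true →
      (((List.range L.numPts).filter fun b => L.live b).toFinset.filter fun b => M.pt b = M.pt c).card ≤ 3 := by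
  classical
  intro c
  induction hk : A.depth c using Nat.strong_induction_on generalizing c with
  | _ k IH =>
    intro hc hl
    subst hk
    have h := C.good c hc
    simp only [okAct, hl, cond_true, Bool.and_eq_true] at h
    obtain ⟨-, -, hd⟩ := h
    cases h0 : Nat.beq (A.depth c) 0
    · simp only [h0, cond_false, Bool.and_eq_true, Nat.blt_eq] at hd
      obtain ⟨h6, hlt⟩ := hd
      refine le_trans ?_ (IH _ hlt _ rfl (act_lt C hc h6).1 (act_live C hc hl h6))
      refine Finset.card_le_card_of_injOn (fun b => A.act b (A.next c)) ?_ ?_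
      · intro b hb
        simp only [Finset.coe_filter, List.mem_toFinset, List.mem_filter, List.mem_range, Set.mem_ofPred_eq] at hb ⊢
        refine ⟨⟨(act_lt C hb.1.1 h6).1, act_live C hb.1.1 hb.1.2 h6⟩, ?_⟩
        rw [M.pt_act C K hb.1.1 hb.1.2 h6, M.pt_act C K hc hl h6, hb.2]
      · intro b hb b' hb' e
        simp only [Finset.coe_filter, List.mem_toFinset, List.mem_filter, List.mem_range, Set.mem_ofPred_eq] at hb hb'
        exact act_inj C hb.1.1 hb'.1.1 h6 e
    · simp only [h0, cond_true] at hd
      obtain rfl := Nat.eq_of_beq_eq_true hd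
      refine le_trans (Finset.card_le_card ?_) ((List.toFinset_card_le A.small).trans C.small_le)
      intro b hb
      simp only [Finset.mem_filter, List.mem_toFinset, List.mem_filter, List.mem_range] at hb
      exact List.mem_toFinset.mpr (M.mem_small C K hq b hb.1.1 hb.1.2 hb.2)

/-- A lower bound on the number of cosets. -/
theorem le_card [Finite Q] (hq : M.gen 6 ∉ M.H) :
    (liveList L).length ≤ 3 * Nat.card (Q ⧸ M.H) := by
  classical
  letI : Fintype (Q ⧸ M.H) := Fintype.ofFinite _
  have hnd : (liveList L).Nodup := List.nodup_range.filter _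
  rw [← List.toFinset_card_of_nodup hnd, Nat.card_eq_fintype_card]
  refine Finset.card_le_mul_card_image_of_maps_to (f := M.pt) (t := Finset.univ) (fun _ _ => Finset.mem_univ _) 3 ?_
  intro x _
  by_cases hx : ∃ c ∈ (liveList L).toFinset, M.pt c = x
  · obtain ⟨c, hc, rfl⟩ := hx
    rw [List.mem_toFinset, liveList, List.mem_filter, List.mem_range] at hc
    exact M.fibre_le C K hq c hc.1 hc.2
  · rw [Finset.filter_eq_empty_iff.mpr fun c hc e => hx ⟨c, hc, e⟩]
    simp

end

end Model

end Cfsg.Agent.H52.JThree.Tc
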