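import Mathlib

/-!
A checker for logs of coset enumerations. A fact `(a, g, b)` says that the point `a` times the letter
`g` is the point `b`; it is justified by a path of earlier facts.
-/

set_option autoImplicit false

namespace Cfsg.Agent.H52.JThree.Tc

/-- Binary trees of numbers. -/
inductive BT : Type where
  | leaf : ℕ → BT
  | node : BT → BT → BT

/-- The leaf at an index, read from the bit `d - 1` downwards. -/
noncomputable def BT.get : ℕ → BT → ℕ → ℕ := fun d t i =>
  BT.rec (motive := fun _ => ℕ → ℕ) (fun v _ => v)
    (fun _ _ l r d => cond (Nat.beq (Nat.mod (Nat.shiftRight i (Nat.sub d 1)) 2) 1) (r (Nat.sub d 1))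
      (l (Nat.sub d 1))) t d

/-- Entry `i` of a table of width `w`, with `2 ^ c` entries in a leaf. -/
noncomputable def look (w c d : ℕ) (t : BT) (i : ℕ) : ℕ :=
  Nat.mod (Nat.shiftRight (BT.get d t (Nat.shiftRight i c)) (Nat.mul w (Nat.mod i (Nat.pow 2 c))))
    (Nat.pow 2 w)

/-- The data of a log: facts of width 36, parents of width 20. -/
structure Log where
  fd : ℕ
  facts : BT
  pd : ℕ
  pars : BT
  numFacts : ℕ
  numPts : ℕ
  rels : List (List ℕ)
  subs : List ℕ

/-- The inverse letters; `8` is the empty letter. -/
noncomputable def iv (g : ℕ) : ℕ :=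
  cond (Nat.blt g 4) (cond (Nat.beq (Nat.mod g 2) 0) (Nat.add g 1) (Nat.sub g 1)) g

namespace Log

noncomputable def fact (L : Log) (i : ℕ) : ℕ := look 36 4 L.fd L.facts i
noncomputable def fa (L : Log) (i : ℕ) : ℕ := Nat.mod (L.fact i) 65536
noncomputable def fb (L : Log) (i : ℕ) : ℕ := Nat.mod (Nat.shiftRight (L.fact i) 16) 65536
noncomputable def fg (L : Log) (i : ℕ) : ℕ := Nat.shiftRight (L.fact i) 32
noncomputable def par (L : Log) (b : ℕ) : ℕ := look 21 4 L.pd L.pars b
noncomputable def parPt (L : Log) (b : ℕ) : ℕ := Nat.mod (L.par b) 65536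
noncomputable def parLet (L : Log) (b : ℕ) : ℕ := Nat.mod (Nat.shiftRight (L.par b) 16) 16
noncomputable def live (L : Log) (b : ℕ) : Bool := Nat.beq (Nat.shiftRight (L.par b) 20) 1

end Log

/-- Comparison of lists of numbers. -/
noncomputable def leq (a b : List ℕ) : Bool :=
  List.rec (motive := fun _ => List ℕ → Bool)
    (fun b => List.rec true (fun _ _ _ => false) b)
    (fun x _ ih b => List.rec false (fun y ys _ => cond (Nat.beq x y) (ih ys) false) b) a b

/-- Free reduction onto a stack. -/
noncomputable def push (g : ℕ) (st : List ℕ) : List ℕ :=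
  List.rec [g] (fun h t _ => cond (Nat.beq (iv g) h) t (g :: h :: t)) st

/-- The word of a path; `none` if it is not a path. -/
noncomputable def walk (L : Log) (idx : ℕ) (n : ℕ) : ℕ → ℕ → List ℕ → Option (ℕ × List ℕ) :=
  Nat.rec (fun _ p acc => some (p, acc))
    (fun _ ih s p acc =>
      let f := Nat.shiftRight (Nat.mod s 262144) 1
      let back := Nat.beq (Nat.mod s 2) 1
      let a := cond back (L.fb f) (L.fa f)
      let b := cond back (L.fa f) (L.fb f)
      let g := cond back (iv (L.fg f)) (L.fg f)
      cond (Nat.blt f idx && Nat.beq a p && Nat.ble (L.fg f) 8)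
        (ih (Nat.shiftRight s 18) b (cond (Nat.beq g 8) acc (g :: acc))) none) n

/-- The word to compare with: a rotation of a relator or of its inverse. -/
noncomputable def target (rels : List (List ℕ)) (k dir m : ℕ) : List ℕ :=
  let r := List.rec (motive := fun _ => ℕ → List ℕ) (fun _ => [])
    (fun x _ ih k => cond (Nat.beq k 0) x (ih (Nat.sub k 1))) rels k
  let r' := cond (Nat.beq dir 1) r (r.reverse.map iv)
  r'.drop m ++ r'.take m

/-- Check of fact `idx` with justification `j`: a definition, a subgroup generator, a relator or a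
cancelling word. -/
noncomputable def okFact (L : Log) (idx j : ℕ) : Bool :=
  let a := L.fa idx
  let b := L.fb idx
  let g := L.fg idx
  Nat.ble g 8 &&
    cond (Nat.beq (Nat.mod j 4) 0)
      (Nat.blt a b && Nat.blt b L.numPts && Nat.beq (L.parPt b) a && Nat.beq (L.parLet b) g)
    (cond (Nat.beq (Nat.mod j 4) 1) (Nat.beq a 0 && Nat.beq b 0 && L.subs.any (Nat.beq g))
    (let k := Nat.mod (Nat.shiftRight j 2) 64
     let dir := Nat.mod (Nat.shiftRight j 8) 2
     let m := Nat.mod (Nat.shiftRight j 9) 64
     let n := Nat.mod (Nat.shiftRight j 15) 64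
     match walk L idx n (Nat.shiftRight j 21) a [] with
     | none => false
     | some (e, acc) =>
       Nat.beq e b &&
         cond (Nat.beq (Nat.mod j 4) 2)
           (Nat.blt k L.rels.length &&
             leq (cond (Nat.beq g 8) acc (iv g :: acc)).reverse (target L.rels k dir m))
           (leq (List.rec [] (fun x _ ih => push x ih) (cond (Nat.beq g 8) acc (iv g :: acc))) [])))

/-- Check of a run of facts starting at `start`. -/
noncomputable def okFrom (L : Log) (js : List ℕ) (start : ℕ) : Bool :=
  List.rec (motive := fun _ => ℕ → Bool) (fun _ => true)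
    (fun j _ ih i => cond (okFact L i j) (ih (Nat.add i 1)) false) js start

/-- The six letters to close under. -/
def closeLet : List ℕ := [0, 2, 4, 5, 6, 7]

/-- Check of a point: its parent precedes it; a live point has six facts to live points. -/
noncomputable def okPt (L : Log) (b e : ℕ) : Bool :=
  (Nat.beq b 0 || (Nat.blt (L.parPt b) b && Nat.ble (L.parLet b) 8)) &&
    cond (L.live b)
      ((List.range 6).all fun i =>
        let f := Nat.mod (Nat.shiftRight e (Nat.mul 18 i)) 262144
        let f' := Nat.shiftRight f 1
        let back := Nat.beq (Nat.mod f 2) 1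
        Nat.blt f' L.numFacts &&
          cond back
            (Nat.beq (L.fb f') b && Nat.beq (iv (L.fg f')) (closeLet.getD i 0) && L.live (L.fa f') &&
              Nat.blt (L.fa f') L.numPts)
            (Nat.beq (L.fa f') b && Nat.beq (L.fg f') (closeLet.getD i 0) && L.live (L.fb f') &&
              Nat.blt (L.fb f') L.numPts))
      true

/-- Check of a run of points starting at `start`. -/
noncomputable def okPts (L : Log) (es : List ℕ) (start : ℕ) : Bool :=
  List.rec (motive := fun _ => ℕ → Bool) (fun _ => true)
    (fun e _ ih b => cond (okPt L b e) (ih (Nat.add b 1)) false) es start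

end Cfsg.Agent.H52.JThree.Tc
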