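import Cfsg.Agent.H52.JThree.Tc.Check

/-!
A checked log bounds the number of cosets in every finite group satisfying the relators.
-/

set_option autoImplicit false

namespace Cfsg.Agent.H52.JThree.Tc

/-- A checked log. -/
structure Checked (L : Log) where
  fs : List (List ℕ × ℕ)
  fs_ok : ∀ p ∈ fs, okFrom L p.1 p.2 = true
  fs_cover : ∀ i < L.numFacts, ∃ p ∈ fs, p.2 ≤ i ∧ i < p.2 + p.1.length
  ps : List (List ℕ × ℕ)
  ps_ok : ∀ p ∈ ps, okPts L p.1 p.2 = true
  ps_cover : ∀ i < L.numPts, ∃ p ∈ ps, p.2 ≤ i ∧ i < p.2 + p.1.length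
  zero_live : L.live 0 = true
  pos : 0 < L.numPts

/-- A boolean form of covering for runs listed in order. -/
def covers (n : ℕ) : List (ℕ × ℕ) → ℕ → Bool
  | [], k => Nat.ble n k
  | (len, s) :: r, k => Nat.beq s k && covers n r (k + len)

theorem covers_spec (n : ℕ) : ∀ (l : List (List ℕ × ℕ)) (k : ℕ),
    covers n (l.map fun p => (p.1.length, p.2)) k = true →
      ∀ i, k ≤ i → i < n → ∃ p ∈ l, p.2 ≤ i ∧ i < p.2 + p.1.length
  | [], k, h, i, h1, h2 => absurd (Nat.le_of_ble_eq_true h) (by omega)
  | (js, s) :: r, k, h, i, h1, h2 => by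
    simp only [List.map_cons, covers, Bool.and_eq_true] at h
    obtain ⟨hs, hr⟩ := h
    obtain rfl := Nat.eq_of_beq_eq_true hs
    rcases lt_or_ge i (s + js.length) with hi | hi
    · exact ⟨_, List.mem_cons_self, h1, hi⟩
    · obtain ⟨p, hp, hp'⟩ := covers_spec n r _ hr i hi h2
      exact ⟨p, List.mem_cons_of_mem _ hp, hp'⟩

theorem okFrom_spec (L : Log) : ∀ (js : List ℕ) (s : ℕ), okFrom L js s = true →
    ∀ i, s ≤ i → i < s + js.length → ∃ j, okFact L i j = true
  | [], s, _, i, h1, h2 => by simp at h2; omega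
  | j :: js, s, h, i, h1, h2 => by
    cases hj : okFact L s j with
    | false => simp [okFrom, hj] at h
    | true =>
      simp only [okFrom, hj, cond_true] at h
      rcases eq_or_lt_of_le h1 with rfl | hlt
      · exact ⟨j, hj⟩
      · exact okFrom_spec L js (s + 1) h i hlt (by simp at h2; omega)

theorem okPts_spec (L : Log) : ∀ (js : List ℕ) (s : ℕ), okPts L js s = true →
    ∀ i, s ≤ i → i < s + js.length → ∃ j, okPt L i j = true
  | [], s, _, i, h1, h2 => by simp at h2; omega
  | j :: js, s, h, i, h1, h2 => by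
    cases hj : okPt L s j with
    | false => simp [okPts, hj] at h
    | true =>
      simp only [okPts, hj, cond_true] at h
      rcases eq_or_lt_of_le h1 with rfl | hlt
      · exact ⟨j, hj⟩
      · exact okPts_spec L js (s + 1) h i hlt (by simp at h2; omega)

theorem leq_eq : ∀ {a b : List ℕ}, leq a b = true → a = b
  | [], [], _ => rfl
  | [], _ :: _, h => by simp [leq] at h
  | _ :: _, [], h => by simp [leq] at h
  | x :: a, y :: b, h => by
    cases hxy : Nat.beq x y with
    | false => simp [leq, hxy] at h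
    | true =>
      simp only [leq, hxy, cond_true] at h
      rw [Nat.eq_of_beq_eq_true hxy, leq_eq (a := a) (b := b) h]

theorem iv_iv {g : ℕ} : iv (iv g) = g := by
  rcases lt_or_ge g 4 with h | h
  · interval_cases g <;> rfl
  · have hb : Nat.blt g 4 = false := by
      rw [Bool.eq_false_iff]; intro h'; simp only [Nat.blt_eq] at h'; omega
    simp [iv, hb]

theorem prod_push {K : Type*} [Group K] (ν : ℕ → K) (hν : ∀ g, ν (iv g) = (ν g)⁻¹) (g : ℕ) (st : List ℕ) :
    ((push g st).map ν).prod = ν g * (st.map ν).prod := by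
  cases st with
  | nil => simp [push]
  | cons h t =>
    cases hb : Nat.beq (iv g) h with
    | false => simp [push, hb]
    | true =>
      obtain rfl := Nat.eq_of_beq_eq_true hb
      simp [push, hb, hν]

theorem prod_reduce {K : Type*} [Group K] (ν : ℕ → K) (hν : ∀ g, ν (iv g) = (ν g)⁻¹) :
    ∀ l : List ℕ, ((List.rec (motive := fun _ => List ℕ) [] (fun x _ ih => push x ih) l : List ℕ).map ν).prod =
      (l.map ν).prod
  | [] => rfl
  | x :: l => by
    show ((push x _).map ν).prod = _
    rw [prod_push ν hν, prod_reduce ν hν l]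
    simp

theorem prod_rotate {K : Type*} [Group K] (ν : ℕ → K) (r : List ℕ) (m : ℕ) (h : (r.map ν).prod = 1) :
    (((r.drop m) ++ r.take m).map ν).prod = 1 := by
  rw [← List.take_append_drop m r, List.map_append, List.prod_append] at h
  rw [List.map_append, List.prod_append]
  exact mul_eq_one_comm.mp h

theorem prod_rev_inv {K : Type*} [Group K] (ν : ℕ → K) (hν : ∀ g, ν (iv g) = (ν g)⁻¹) :
    ∀ r : List ℕ, ((r.reverse.map iv).map ν).prod = ((r.map ν).prod)⁻¹
  | [] => by simp
  | x :: r => by
    rw [List.reverse_cons, List.map_append, List.map_append, List.prod_append, prod_rev_inv ν hν r]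
    simp [hν]

theorem getRel_mem : ∀ (rels : List (List ℕ)) (k : ℕ), k < rels.length →
    (List.rec (motive := fun _ => ℕ → List ℕ) (fun _ => [])
      (fun x _ ih k => cond (Nat.beq k 0) x (ih (Nat.sub k 1))) rels k : List ℕ) ∈ rels
  | [], k, h => by simp at h
  | x :: rels, 0, h => by simp
  | x :: rels, k + 1, h => by
    refine List.mem_cons_of_mem _ ?_
    exact getRel_mem rels k (by simpa using h)

/-- A group with the relators of a log. -/
structure Model (L : Log) (Q : Type*) [Group Q] where
  gen : ℕ → Q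
  H : Subgroup Q
  gen_iv : ∀ g, gen (iv g) = (gen g)⁻¹
  gen_eight : gen 8 = 1
  rel : ∀ r ∈ L.rels, (r.map gen).prod = 1
  sub_mem : ∀ g ∈ L.subs, gen g ∈ H

namespace Model

variable {L : Log} {Q : Type*} [Group Q] (M : Model L Q)

/-- The product of a word. -/
def val (w : List ℕ) : Q := (w.map M.gen).prod

/-- The point of a number. -/
noncomputable def pt : ℕ → Q ⧸ M.H
  | b => if h : L.parPt b < b then (M.gen (L.parLet b))⁻¹ • pt (L.parPt b) else QuotientGroup.mk 1

theorem pt_par {b : ℕ} (h : L.parPt b < b) : M.pt b = (M.gen (L.parLet b))⁻¹ • M.pt (L.parPt b) := by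
  rw [pt, dif_pos h]

theorem pt_zero : M.pt 0 = QuotientGroup.mk 1 := by rw [pt, dif_neg (Nat.not_lt_zero _)]

/-- A fact holds. -/
def Holds (i : ℕ) : Prop := M.pt (L.fb i) = (M.gen (L.fg i))⁻¹ • M.pt (L.fa i)

theorem walk_spec {idx : ℕ} (IH : ∀ i < idx, M.Holds i) (x : Q ⧸ M.H) :
    ∀ (n s p : ℕ) (acc : List ℕ) (e : ℕ) (acc' : List ℕ), walk L idx n s p acc = some (e, acc') →
      M.pt p = (M.val acc.reverse)⁻¹ • x → M.pt e = (M.val acc'.reverse)⁻¹ • x
  | 0, s, p, acc, e, acc', h, hp => by
    simp only [walk, Option.some.injEq, Prod.mk.injEq] at h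
    obtain ⟨rfl, rfl⟩ := h
    exact hp
  | n + 1, s, p, acc, e, acc', h, hp => by
    set f := Nat.shiftRight (Nat.mod s 262144) 1 with hf
    cases hb : Nat.beq (Nat.mod s 2) 1 <;>
      simp only [walk, ← hf, hb, cond_true, cond_false] at h
    all_goals
      generalize hcond : (Nat.blt f idx && _ && _) = c at h
      cases c
      · simp at h
      simp only [cond_true] at h
      simp only [Bool.and_eq_true, Nat.blt_eq] at hcond
      have hc := hcond
      obtain ⟨⟨hlt, hap⟩, -⟩ := hc
      obtain rfl := Nat.eq_of_beq_eq_true hap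
      have hF : M.pt (L.fb f) = (M.gen (L.fg f))⁻¹ • M.pt (L.fa f) := IH f hlt
      refine walk_spec IH x n _ _ _ e acc' h ?_
    · cases hg : Nat.beq (L.fg f) 8
      · simp only [cond_false, val, List.reverse_cons, List.map_append, List.prod_append, List.map_cons,
          List.map_nil, List.prod_cons, List.prod_nil, mul_one]
        rw [mul_inv_rev, mul_smul, hF, hp]
        rfl
      · simp only [cond_true]
        rw [hF, Nat.eq_of_beq_eq_true hg, M.gen_eight, inv_one, one_smul, hp]
    · cases hg : Nat.beq (iv (L.fg f)) 8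
      · simp only [cond_false, val, List.reverse_cons, List.map_append, List.prod_append, List.map_cons,
          List.map_nil, List.prod_cons, List.prod_nil, mul_one]
        rw [mul_inv_rev, mul_smul, M.gen_iv, inv_inv, ← val, ← hp, hF, smul_smul, mul_inv_cancel, one_smul]
      · simp only [cond_true]
        have e8 : L.fg f = 8 := by
          have := congrArg iv (Nat.eq_of_beq_eq_true hg)
          rwa [iv_iv] at this
        rw [← hp, hF, e8, M.gen_eight, inv_one, one_smul]

theorem holds_of_ok {idx j : ℕ} (IH : ∀ i < idx, M.Holds i) (h : okFact L idx j = true) : M.Holds idx := by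
  simp only [okFact, Bool.and_eq_true] at h
  obtain ⟨-, h⟩ := h
  cases h0 : Nat.beq (Nat.mod j 4) 0
  · simp only [h0, cond_false] at h
    cases h1 : Nat.beq (Nat.mod j 4) 1
    · simp only [h1, cond_false] at h
      split at h
      · simp at h
      rename_i e acc hw
      simp only [Bool.and_eq_true] at h
      obtain ⟨he, h⟩ := h
      have hpt := M.walk_spec IH (M.pt (L.fa idx)) _ _ _ [] e acc hw (by simp [val])
      rw [Nat.eq_of_beq_eq_true he] at hpt
      set W := cond (Nat.beq (L.fg idx) 8) acc (iv (L.fg idx) :: acc) with hW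
      have hval : M.val acc.reverse * (M.gen (L.fg idx))⁻¹ = M.val W.reverse := by
        cases hg : Nat.beq (L.fg idx) 8
        · simp [hW, hg, val, M.gen_iv]
        · simp [hW, hg, val, Nat.eq_of_beq_eq_true hg, M.gen_eight]
      have h1' : M.val W.reverse = 1 := by
        cases h2 : Nat.beq (Nat.mod j 4) 2
        · simp only [h2, cond_false] at h
          have hr := prod_reduce (K := Qᵐᵒᵖ) (fun i => MulOpposite.op (M.gen i))
            (fun i => by simp [M.gen_iv]) W
          rw [leq_eq h] at hr
          simp only [List.map_nil, List.prod_nil] at hr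
          apply MulOpposite.op_injective
          rw [val, MulOpposite.op_one, hr, MulOpposite.op_list_prod, List.map_map, ← List.map_reverse,
            List.reverse_reverse]
          rfl
        · simp only [h2, cond_true, Bool.and_eq_true, Nat.blt_eq] at h
          obtain ⟨hk, hl⟩ := h
          rw [val, leq_eq hl]
          unfold target
          apply prod_rotate
          have hm := M.rel _ (getRel_mem L.rels _ hk)
          cases hd : Nat.beq (Nat.mod (Nat.shiftRight j 8) 2) 1
          · simp only [cond_false]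
            rw [prod_rev_inv M.gen M.gen_iv, hm, inv_one]
          · simp only [cond_true]
            exact hm
      rw [← hval, mul_inv_eq_one] at h1'
      rw [h1'] at hpt
      exact hpt
    · simp only [h1, cond_true, Bool.and_eq_true, List.any_eq_true] at h
      obtain ⟨⟨ha, hb⟩, g, hg, hge⟩ := h
      rw [Holds, Nat.eq_of_beq_eq_true ha, Nat.eq_of_beq_eq_true hb, M.pt_zero, Nat.eq_of_beq_eq_true hge]
      refine Eq.trans ?_ (MulAction.Quotient.smul_mk M.H _ _).symm
      refine QuotientGroup.eq.mpr ?_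
      simpa using M.sub_mem g hg
  · simp only [h0, cond_true, Bool.and_eq_true, Nat.blt_eq] at h
    obtain ⟨⟨⟨hab, -⟩, hp⟩, hl⟩ := h
    have e1 := Nat.eq_of_beq_eq_true hp
    have e2 := Nat.eq_of_beq_eq_true hl
    rw [Holds, M.pt_par (b := L.fb idx) (by omega), e1, e2]

variable (C : Checked L)

include C in
theorem holds : ∀ i < L.numFacts, M.Holds i := by
  intro i
  induction i using Nat.strong_induction_on with
  | _ i IH =>
    intro hi
    obtain ⟨p, hp, h1, h2⟩ := C.fs_cover i hi
    obtain ⟨j, hj⟩ := okFrom_spec L p.1 p.2 (C.fs_ok p hp) i h1 h2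
    exact M.holds_of_ok (fun k hk => IH k hk (hk.trans hi)) hj

/-- The live numbers. -/
noncomputable def liveList (L : Log) : List ℕ := (List.range L.numPts).filter fun b => L.live b

include C in
/-- The number of cosets is at most the number of live points. -/
theorem card_le [Finite Q] (hgen : Subgroup.closure {q | ∃ g ∈ closeLet, M.gen g = q} = ⊤) :
    Nat.card (Q ⧸ M.H) ≤ (liveList L).length := by
  classical
  set S : Set (Q ⧸ M.H) := ↑((liveList L).map M.pt).toFinset with hS
  have memS : ∀ b < L.numPts, L.live b = true → M.pt b ∈ S := fun b hb hl => by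
    rw [hS, Finset.mem_coe, List.mem_toFinset]
    exact List.mem_map_of_mem (List.mem_filter.mpr ⟨List.mem_range.mpr hb, hl⟩)
  have hcl : ∀ g ∈ closeLet, ∀ x ∈ S, (M.gen g)⁻¹ • x ∈ S := by
    intro g hg x hx
    rw [hS, Finset.mem_coe, List.mem_toFinset, List.mem_map] at hx
    obtain ⟨b, hb, rfl⟩ := hx
    obtain ⟨hb', hbl⟩ := List.mem_filter.mp hb
    rw [List.mem_range] at hb'
    obtain ⟨p, hp, h1, h2⟩ := C.ps_cover b hb'
    obtain ⟨e, he⟩ := okPts_spec L p.1 p.2 (C.ps_ok p hp) b h1 h2
    simp only [okPt, Bool.and_eq_true] at he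
    have he2 := he.2
    simp only [hbl, cond_true, List.all_eq_true] at he2
    obtain ⟨i, hi, rfl⟩ : ∃ i, i < 6 ∧ closeLet.getD i 0 = g := by
      have key : ∀ g ∈ closeLet, ∃ i : Fin 6, closeLet.getD i 0 = g := by decide
      obtain ⟨i, hi⟩ := key g hg
      exact ⟨i, i.2, hi⟩
    have h6 := he2 i (List.mem_range.mpr hi)
    simp only [Bool.and_eq_true, Nat.blt_eq] at h6
    obtain ⟨hlt, h6⟩ := h6
    have hF := M.holds C _ hlt
    revert h6
    cases Nat.beq (Nat.mod (Nat.mod (Nat.shiftRight e (Nat.mul 18 i)) 262144) 2) 1 <;>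
      simp only [cond_true, cond_false, Bool.and_eq_true, Nat.blt_eq] <;>
      rintro ⟨⟨⟨ha, hgg⟩, hlv⟩, hbound⟩
    · have hm := memS _ hbound hlv
      rw [hF, Nat.eq_of_beq_eq_true ha, Nat.eq_of_beq_eq_true hgg] at hm
      exact hm
    · have hm := memS _ hbound hlv
      rw [← Nat.eq_of_beq_eq_true ha, ← Nat.eq_of_beq_eq_true hgg, M.gen_iv, inv_inv, hF, smul_smul,
        mul_inv_cancel, one_smul]
      exact hm
  have hall : ∀ q : Q, ∀ x ∈ S, q⁻¹ • x ∈ S := by
    intro q
    have hq : q ∈ Subgroup.closure {q | ∃ g ∈ closeLet, M.gen g = q} := hgen ▸ Subgroup.mem_top q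
    induction hq using Subgroup.closure_induction with
    | mem q hq => obtain ⟨g, hg, rfl⟩ := hq; exact hcl g hg
    | one => simp
    | mul a b _ _ ha hb => intro x hx; rw [mul_inv_rev, mul_smul]; exact hb _ (ha x hx)
    | inv a _ ha =>
      intro x hx
      rw [inv_inv]
      have himg : (fun y => a⁻¹ • y) '' S = S :=
        Set.eq_of_subset_of_ncard_le (fun y ⟨z, hz, e⟩ => e ▸ ha z hz)
          (Set.ncard_image_of_injective S (MulAction.injective a⁻¹)).ge S.toFinite
      rw [← himg] at hx
      obtain ⟨z, hz, rfl⟩ := hx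
      simpa using hz
  have huniv : S = Set.univ := by
    refine Set.eq_univ_of_forall fun x => ?_
    obtain ⟨q, rfl⟩ := QuotientGroup.mk_surjective x
    have := hall q⁻¹ (M.pt 0) (memS 0 C.pos C.zero_live)
    rwa [inv_inv, M.pt_zero, MulAction.Quotient.smul_mk, smul_eq_mul, mul_one] at this
  rw [← Set.ncard_univ, ← huniv, hS, Set.ncard_coe_finset]
  exact (List.toFinset_card_le _).trans (by rw [List.length_map])

end Model

end Cfsg.Agent.H52.JThree.Tc
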